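import Groth.Agent.S7527
import Mathlib

/-!
# Connected components of spectral spaces
-/

set_option autoImplicit false
universe u

open Set

namespace WLocalTopLib

variable {X : Type u} [TopologicalSpace X] [SpectralSpace X]

theorem mem_open_of_specializes {x y : X} (h : x ⤳ y) {U : Set X} (hU : IsOpen U) (hy : y ∈ U) : x ∈ U := h.mem_open hU hy

theorem exists_separated {P Q : Set X} (hP : IsCompact P) (hQ : IsCompact Q)
    (h : ∀ p ∈ P, ∀ q ∈ Q, ¬∃ z : X, z ⤳ p ∧ z ⤳ q) :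
    ∃ U V : Set X, IsOpen U ∧ IsOpen V ∧ P ⊆ U ∧ Q ⊆ V ∧ Disjoint U V := by
  have key : ∀ p ∈ P, ∃ U V : Set X, IsOpen U ∧ IsOpen V ∧ p ∈ U ∧ Q ⊆ V ∧ Disjoint U V := by
    intro p hp
    choose U V hU hV hpU hqV hd using fun q : Q => (Groth.Agent.S7527.result p q.1).resolve_left (h p hp q.1 q.2)
    obtain ⟨T, hT⟩ := hQ.elim_finite_subcover V hV fun q hq => mem_iUnion.2 ⟨⟨q, hq⟩, hqV ⟨q, hq⟩⟩
    refine ⟨⋂ q ∈ T, U q, ⋃ q ∈ T, V q, isOpen_biInter_finset fun q _ => hU q, isOpen_biUnion fun q _ => hV q,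
      mem_iInter₂.2 fun q _ => hpU q, hT, disjoint_iUnion₂_right.2 fun q hq => (hd q).mono_left (biInter_subset_of_mem hq)⟩
  choose U V hU hV hpU hQV hd using fun p : P => key p.1 p.2
  obtain ⟨T, hT⟩ := hP.elim_finite_subcover U hU fun p hp => mem_iUnion.2 ⟨⟨p, hp⟩, hpU ⟨p, hp⟩⟩
  exact ⟨⋃ p ∈ T, U p, ⋂ p ∈ T, V p, isOpen_biUnion fun p _ => hU p, isOpen_biInter_finset fun p _ => hV p, hT,
    subset_iInter₂ fun p _ => hQV p, disjoint_iUnion₂_left.2 fun p hp => (hd p).mono_right (biInter_subset_of_mem hp)⟩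

theorem connectedComponent_eq_iInter (x : X) :
    connectedComponent x = ⋂ s : { s : Set X // IsClopen s ∧ x ∈ s }, (s : Set X) := by
  refine (subset_iInter fun s => s.2.1.connectedComponent_subset s.2.2).antisymm ?_
  set K := ⋂ s : { s : Set X // IsClopen s ∧ x ∈ s }, (s : Set X) with hK
  have hKc : IsClosed K := isClosed_iInter fun s => s.2.1.1
  refine IsPreconnected.subset_connectedComponent ?_ (mem_iInter.2 fun s => s.2.2)
  rw [isPreconnected_iff_subset_of_fully_disjoint_closed hKc]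
  intro P Q hP hQ hPQ hd
  have hgen : ∀ p ∈ P ∩ K, ∀ q ∈ Q ∩ K, ¬∃ z : X, z ⤳ p ∧ z ⤳ q := by
    rintro p ⟨hp, hpK⟩ q ⟨hq, -⟩ ⟨z, hzp, hzq⟩
    have hzK : z ∈ K := mem_iInter.2 fun s => hzp.mem_open s.2.1.2 (mem_iInter.1 hpK s)
    rcases hPQ hzK with hz | hz
    · exact hd.le_bot ⟨hzq.mem_closed hP hz, hq⟩
    · exact hd.le_bot ⟨hp, hzp.mem_closed hQ hz⟩
  obtain ⟨U, V, hU, hV, hPU, hQV, hUV⟩ :=
    exists_separated (hP.inter hKc).isCompact (hQ.inter hKc).isCompact hgen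
  have hKUV : K ⊆ U ∪ V := fun z hz => (hPQ hz).imp (fun h => hPU ⟨h, hz⟩) fun h => hQV ⟨h, hz⟩
  haveI : Nonempty { s : Set X // IsClopen s ∧ x ∈ s } := ⟨⟨univ, isClopen_univ, trivial⟩⟩
  obtain ⟨⟨W, hW, hxW⟩, hWUV⟩ : ∃ s : { s : Set X // IsClopen s ∧ x ∈ s }, (s : Set X) ⊆ U ∪ V := by
    have h : ∀ z ∈ (U ∪ V)ᶜ, ∃ s : { s : Set X // IsClopen s ∧ x ∈ s }, z ∉ (s : Set X) := fun z hz => by
      by_contra h'
      simp only [not_exists, not_not] at h'
      exact hz (hKUV (mem_iInter.2 h'))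
    obtain ⟨T, hT⟩ := ((hU.union hV).isClosed_compl.isCompact).elim_finite_subcover
      (fun s : { s : Set X // IsClopen s ∧ x ∈ s } => (s : Set X)ᶜ) (fun s => s.2.1.compl.2)
      fun z hz => mem_iUnion.2 (h z hz)
    refine ⟨⟨⋂ s ∈ T, (s : Set X), isClopen_biInter_finset fun s _ => s.2.1, mem_iInter₂.2 fun s _ => s.2.2⟩,
      fun z hz => by_contra fun hz' => ?_⟩
    obtain ⟨s, hs, hzs⟩ : ∃ s ∈ T, z ∈ (s : Set X)ᶜ := by simpa using hT hz'
    exact hzs (mem_iInter₂.1 hz s hs)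
  have hWU : IsClopen (W ∩ U) := by
    refine ⟨?_, hW.2.inter hU⟩
    rw [show W ∩ U = W ∩ Vᶜ from Set.ext fun z => ⟨fun h => ⟨h.1, fun hv => hUV.le_bot ⟨h.2, hv⟩⟩,
      fun h => ⟨h.1, (hWUV h.1).resolve_right h.2⟩⟩]
    exact hW.1.inter hV.isClosed_compl
  have hWV : IsClopen (W ∩ V) := by
    refine ⟨?_, hW.2.inter hV⟩
    rw [show W ∩ V = W ∩ Uᶜ from Set.ext fun z => ⟨fun h => ⟨h.1, fun hu => hUV.le_bot ⟨hu, h.2⟩⟩,
      fun h => ⟨h.1, (hWUV h.1).resolve_left h.2⟩⟩]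
    exact hW.1.inter hU.isClosed_compl
  rcases hWUV hxW with hx | hx
  · refine Or.inl fun z hz => (hPQ hz).resolve_right fun hzQ => ?_
    exact hUV.le_bot ⟨((mem_iInter.1 hz) ⟨W ∩ U, hWU, hxW, hx⟩).2, hQV ⟨hzQ, hz⟩⟩
  · refine Or.inr fun z hz => (hPQ hz).resolve_left fun hzP => ?_
    exact hUV.le_bot ⟨hPU ⟨hzP, hz⟩, ((mem_iInter.1 hz) ⟨W ∩ V, hWV, hxW, hx⟩).2⟩

theorem exists_closed_specialization (x : X) : ∃ z : X, IsClosed ({z} : Set X) ∧ x ⤳ z := by
  obtain ⟨z, hz, hzc⟩ := (isClosed_closure (s := {x})).exists_closed_singleton ⟨x, subset_closure rfl⟩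
  exact ⟨z, hzc, specializes_iff_mem_closure.2 hz⟩

theorem bijective_of_unique (h0 : IsClosed {x : X | IsClosed ({x} : Set X)})
    (huniq : ∀ x : X, ∃! z : X, IsClosed ({z} : Set X) ∧ x ⤳ z) :
    Function.Bijective (fun x : {x : X // IsClosed ({x} : Set X)} => ConnectedComponents.mk x.1) := by
  haveI : CompactSpace {x : X | IsClosed ({x} : Set X)} := isCompact_iff_compactSpace.1 h0.isCompact
  refine ⟨fun x y h => Subtype.ext ?_, fun c => ?_⟩
  · by_contra hne
    have hcl : ∀ a b : X, IsClosed ({a} : Set X) → IsClosed ({b} : Set X) → a ≠ b → ¬∃ z : X, z ⤳ a ∧ z ⤳ b :=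
      fun a b ha hb hab ⟨z, hza, hzb⟩ => hab ((huniq z).unique ⟨ha, hza⟩ ⟨hb, hzb⟩)
    haveI : T2Space {x : X | IsClosed ({x} : Set X)} := ⟨fun a b hab => by
      obtain ⟨U, V, hU, hV, ha, hb, hd⟩ := (Groth.Agent.S7527.result a.1 b.1).resolve_left
        (hcl a.1 b.1 a.2 b.2 fun e => hab (Subtype.ext e))
      exact ⟨_, _, hU.preimage continuous_subtype_val, hV.preimage continuous_subtype_val, ha, hb, hd.preimage _⟩⟩
    haveI : TotallyDisconnectedSpace {x : X | IsClosed ({x} : Set X)} := by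
      refine totallyDisconnectedSpace_iff_connectedComponent_singleton.2 fun a => ?_
      refine Set.eq_singleton_iff_unique_mem.2 ⟨mem_connectedComponent, fun b hb => ?_⟩
      by_contra hba
      obtain ⟨U, V, hU, hV, ha', hb', hd⟩ := (Groth.Agent.S7527.result a.1 b.1).resolve_left
        (hcl a.1 b.1 a.2 b.2 fun e => hba (Subtype.ext e).symm)
      obtain ⟨C, ⟨hCo, hCc⟩, haC, hCU⟩ :=
        PrespectralSpace.isTopologicalBasis.exists_subset_of_mem_open ha' hU
      have hclopen : IsClopen (Subtype.val ⁻¹' C : Set {x : X | IsClosed ({x} : Set X)}) := by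
        refine ⟨IsCompact.isClosed ?_, hCo.preimage continuous_subtype_val⟩
        rw [Subtype.isCompact_iff, Subtype.image_preimage_coe, Set.inter_comm]
        exact hCc.inter_right h0
      exact hd.le_bot ⟨hCU (hclopen.connectedComponent_subset haC hb), hb'⟩
    obtain ⟨A, hA, hxA, hyA⟩ : ∃ A : Set {x : X | IsClosed ({x} : Set X)}, IsClopen A ∧
        (⟨x.1, x.2⟩ : {x : X | IsClosed ({x} : Set X)}) ∈ A ∧
        (⟨y.1, y.2⟩ : {x : X | IsClosed ({x} : Set X)}) ∈ Aᶜ :=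
      exists_isClopen_of_totally_separated fun e => hne (congrArg Subtype.val e)
    have key : ∀ B : Set {x : X | IsClosed ({x} : Set X)}, IsClosed B → IsCompact (Subtype.val '' B) := fun B hB =>
      hB.isCompact.image continuous_subtype_val
    obtain ⟨U, V, hU, hV, hAU, hBV, hd⟩ := exists_separated (key A hA.1) (key Aᶜ hA.compl.1) (by
      rintro _ ⟨a, ha, rfl⟩ _ ⟨b, hb, rfl⟩
      exact hcl a.1 b.1 a.2 b.2 fun e => hb (Subtype.ext e ▸ ha))
    have hUc : IsClopen U := by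
      refine ⟨?_, hU⟩
      have : U = Vᶜ := Set.ext fun z => ⟨fun hz hv => hd.le_bot ⟨hz, hv⟩, fun hz => by
        obtain ⟨w, hw, hzw⟩ := exists_closed_specialization z
        by_cases hwA : (⟨w, hw⟩ : {x : X | IsClosed ({x} : Set X)}) ∈ A
        · exact hzw.mem_open hU (hAU ⟨_, hwA, rfl⟩)
        · exact absurd (hzw.mem_open hV (hBV ⟨_, hwA, rfl⟩)) hz⟩
      rw [this]
      exact hV.isClosed_compl
    have h1 : y.1 ∈ connectedComponent x.1 := ConnectedComponents.coe_eq_coe'.1 h.symm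
    exact hd.le_bot ⟨hUc.connectedComponent_subset (hAU ⟨_, hxA, rfl⟩) h1, hBV ⟨_, hyA, rfl⟩⟩
  · obtain ⟨a, rfl⟩ := ConnectedComponents.surjective_coe c
    obtain ⟨z, hz, haz⟩ := exists_closed_specialization a
    exact ⟨⟨z, hz⟩, (ConnectedComponents.coe_eq_coe'.2 (haz.mem_closed isClosed_connectedComponent mem_connectedComponent))⟩

theorem refinement_iff :
    (∀ (ι : Type u) (U : ι → Set X), (∀ i, IsOpen (U i)) → (⋃ i, U i) = Set.univ →
      ∃ (n : ℕ) (V : Fin n → Set X), (∀ k, IsClopen (V k)) ∧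
        Pairwise (fun k l => Disjoint (V k) (V l)) ∧ (⋃ k, V k) = Set.univ ∧ ∀ k, ∃ i, V k ⊆ U i) ↔
    Function.Bijective (fun x : {x : X // IsClosed ({x} : Set X)} => ConnectedComponents.mk x.1) := by
  constructor
  · intro H
    refine ⟨fun x y h => Subtype.ext ?_, fun c => ?_⟩
    · by_contra hne
      obtain ⟨n, V, hV, -, hcov, hsub⟩ := H (ULift.{u} Bool) (fun b => bif b.down then {x.1}ᶜ else {y.1}ᶜ)
        (fun b => by rcases b with ⟨_ | _⟩ <;> simp [x.2.isOpen_compl, y.2.isOpen_compl])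
        (Set.eq_univ_of_forall fun z => by
          by_cases hz : z = x.1
          · exact mem_iUnion.2 ⟨⟨false⟩, by simp [hz, hne]⟩
          · exact mem_iUnion.2 ⟨⟨true⟩, by simp [hz]⟩)
      obtain ⟨k, hk⟩ := mem_iUnion.1 (hcov.ge (mem_univ x.1))
      obtain ⟨⟨b⟩, hb⟩ := hsub k
      cases b
      · have h1 : y.1 ∈ connectedComponent x.1 := ConnectedComponents.coe_eq_coe'.1 h.symm
        exact hb ((hV k).connectedComponent_subset hk h1) rfl
      · exact hb hk rfl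
    · obtain ⟨a, rfl⟩ := ConnectedComponents.surjective_coe c
      obtain ⟨z, hz, haz⟩ := exists_closed_specialization a
      exact ⟨⟨z, hz⟩, (ConnectedComponents.coe_eq_coe'.2 (haz.mem_closed isClosed_connectedComponent mem_connectedComponent))⟩
  · intro hb ι U hU hcov
    have loc : ∀ a : X, ∃ W : Set X, IsClopen W ∧ a ∈ W ∧ ∃ i, W ⊆ U i := by
      intro a
      obtain ⟨⟨x, hx⟩, hxa⟩ := hb.2 (ConnectedComponents.mk a)
      have hax : a ∈ connectedComponent x := ConnectedComponents.coe_eq_coe'.1 hxa.symm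
      obtain ⟨i, hi⟩ := mem_iUnion.1 (hcov.ge (mem_univ x))
      have hCU : connectedComponent x ⊆ U i := fun z hz => by
        obtain ⟨w, hw, hzw⟩ := exists_closed_specialization z
        have hwC : w ∈ connectedComponent x := hzw.mem_closed isClosed_connectedComponent hz
        have e : (⟨w, hw⟩ : {x : X // IsClosed ({x} : Set X)}) = ⟨x, hx⟩ := hb.1 (ConnectedComponents.coe_eq_coe'.2 hwC)
        exact hzw.mem_open (hU i) (by rw [show w = x from congrArg Subtype.val e]; exact hi)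
      rw [connectedComponent_eq_iInter] at hCU
      obtain ⟨T, hT⟩ := ((hU i).isClosed_compl.isCompact).elim_finite_subcover
        (fun s : { s : Set X // IsClopen s ∧ x ∈ s } => (s : Set X)ᶜ) (fun s => s.2.1.compl.2) fun z hz => by
          by_contra h
          exact hz (hCU (mem_iInter.2 fun s => by
            by_contra hs
            exact h (mem_iUnion.2 ⟨s, hs⟩)))
      refine ⟨⋂ s ∈ T, (s : Set X), isClopen_biInter_finset fun s _ => s.2.1,
        mem_iInter₂.2 fun s _ => s.2.1.connectedComponent_subset s.2.2 hax, i, fun z hz => by_contra fun hz' => ?_⟩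
      obtain ⟨s, hs, hzs⟩ : ∃ s ∈ T, z ∈ (s : Set X)ᶜ := by simpa using hT hz'
      exact hzs (mem_iInter₂.1 hz s hs)
    choose W hW haW hWi using loc
    obtain ⟨T, hT⟩ := isCompact_univ.elim_finite_subcover W (fun a => (hW a).2) fun a _ => mem_iUnion.2 ⟨a, haW a⟩
    let e := T.equivFin
    let f : Fin T.card → Set X := fun k => W (e.symm k).1
    refine ⟨T.card, disjointed f, fun k => disjointedRec (p := IsClopen) (fun {t} i h => IsClopen.diff h (hW _)) (hW _),
      disjoint_disjointed f, ?_, fun k => ?_⟩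
    · rw [iUnion_disjointed]
      refine Set.eq_univ_of_forall fun z => ?_
      obtain ⟨a, haT, hza⟩ : ∃ a ∈ T, z ∈ W a := by simpa using hT (mem_univ z)
      exact mem_iUnion.2 ⟨e ⟨a, haT⟩, by simpa [f] using hza⟩
    · obtain ⟨i, hi⟩ := hWi (e.symm k).1
      exact ⟨i, (disjointed_subset f k).trans hi⟩

end WLocalTopLib
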